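import Groth.Agent.Lib.OrbitH28.Basic
import Mathlib.RingTheory.Ideal.GoingUp

/-!
# Boundaries of orbits are smaller; closed orbits as subsets of the spectrum
-/

open TensorProduct HopfRep WithConv Groth.Agent.Comodule

universe u

namespace Groth.Agent.OrbitH28

set_option linter.unusedSectionVars false
set_option linter.style.haveILetI false

variable {k : Type u} [Field k] [IsAlgClosed k] {A : Type u} [CommRing A] [HopfAlgebra k A]
  [Algebra.FiniteType k A]
variable {R : Type u} [CommRing R] [Algebra k R] [Comod k A R] [GLin.IsCoactAlg k A R]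
  [Algebra.FiniteType k R]

/-- Closedness on points is closedness in the spectrum. -/
theorem closed_iff_isClosedOrbit (x : R →ₐ[k] k) : Closed A x ↔ GLin.IsClosedOrbit k A x := by
  constructor
  · intro hx
    haveI : IsNoetherianRing R := Algebra.FiniteType.isNoetherianRing k R
    set φ := GLin.orbitHom k A x
    have hfp : φ.toRingHom.FinitePresentation := by
      refine RingHom.FinitePresentation.of_finiteType.1 ?_
      letI : Algebra R A := φ.toRingHom.toAlgebra
      haveI : IsScalarTower k R A := IsScalarTower.of_algHom φ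
      exact RingHom.finiteType_algebraMap.2 (Algebra.FiniteType.of_restrictScalars_finiteType k R A)
    refine isClosed_of_closure_subset fun p hp => ?_
    rw [PrimeSpectrum.closure_range_comap] at hp
    obtain ⟨U, hU, hpU, hUC⟩ := exists_open_of_isConstructible (PrimeSpectrum.isConstructible_range_comap hfp) p
    rcases hUC with h | h
    · exact h p hpU specializes_rfl
    exfalso
    obtain ⟨_, ⟨_, ⟨D, rfl⟩, rfl⟩, hD, hDU⟩ := PrimeSpectrum.isBasis_basic_opens.exists_subset_of_mem_open hpU hU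
    obtain ⟨w, hpw, hwD⟩ := exists_point_of_notMem (k := k) (P := p.asIdeal) hD
    obtain ⟨g, hg⟩ := hx w (fun f hf => hpw (hp hf))
    refine h ⟨RingHom.ker w, inferInstance⟩ (hDU hwD) ((PrimeSpectrum.le_iff_specializes _ _).1 hpw)
      ⟨⟨RingHom.ker g.ofConv, inferInstance⟩, PrimeSpectrum.ext ?_⟩
    ext f
    show φ f ∈ RingHom.ker g.ofConv ↔ f ∈ RingHom.ker w
    rw [← hg]; simp [RingHom.mem_ker, mv_apply, φ]
  · intro hx z hz
    have hz' : (⟨RingHom.ker z, RingHom.ker_isPrime _⟩ : PrimeSpectrum R) ∈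
        Set.range (PrimeSpectrum.comap (GLin.orbitHom k A x).toRingHom) := by
      rw [← hx.closure_eq, PrimeSpectrum.closure_range_comap]
      exact hz
    obtain ⟨q, hq⟩ := hz'
    obtain ⟨m, hm, hqm⟩ := q.asIdeal.exists_le_maximal q.isPrime.ne_top
    obtain ⟨w, rfl⟩ := exists_point_eq (k := k) hm
    refine ⟨toConv w, eq_of_ker_le fun f hf => ?_⟩
    have : f ∈ (PrimeSpectrum.comap (GLin.orbitHom k A x).toRingHom q).asIdeal := by rw [hq]; exact hf
    exact hqm this

/-- Two orbits each in the closure of the other are equal. -/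
theorem exists_mv_eq_of_mutual {x z : R →ₐ[k] k} (hxz : GLin.InOrbitClosure k A x z)
    (hzx : GLin.InOrbitClosure k A z x) : ∃ g : Pts k A, mv g x = z := by
  haveI : Nontrivial A := nontrivial_hopf k A
  obtain ⟨P, hP, -⟩ := Ideal.exists_minimalPrimes_le (I := RingHom.ker (GLin.orbitHom k A x))
    (J := RingHom.ker x) (inOrbitClosure_self x)
  obtain ⟨D, hDP, hD⟩ := exists_open_orbit x hP
  obtain ⟨g, hg⟩ : ∃ g : Pts k A, mv g z D ≠ 0 := by
    by_contra! h
    obtain ⟨n, hn⟩ := isNilpotent_of_forall_point (k := k) (GLin.orbitHom k A z D) fun g => h (toConv g)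
    have hmem : D ^ n ∈ RingHom.ker (GLin.orbitHom k A z) := by rw [RingHom.mem_ker, map_pow, hn]
    obtain ⟨m, hm⟩ := ker_le_radical hzx hmem
    rw [← pow_mul] at hm
    exact hDP (hP.1.1.mem_of_pow_mem _ (hP.1.2 hm))
  obtain ⟨-, h, hh⟩ := hD _ (inOrbitClosure_trans hxz (inOrbitClosure_mv g z)) hg
  exact ⟨h * g⁻¹, by rw [← mv_mv, hh, mv_inv_mv]⟩

/-- The dimension of an orbit closure is finite. -/
theorem exists_orbit_dim (x : R →ₐ[k] k) :
    ∃ n : ℕ, ringKrullDim (R ⧸ RingHom.ker (GLin.orbitHom k A x)) = (n : WithBot ℕ∞) := by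
  haveI : Nontrivial A := nontrivial_hopf k A
  haveI : Nontrivial (R ⧸ RingHom.ker (GLin.orbitHom k A x)) :=
    Ideal.Quotient.nontrivial_iff.2 (RingHom.ker_ne_top _)
  haveI : Algebra.FiniteType k (R ⧸ RingHom.ker (GLin.orbitHom k A x)) :=
    Algebra.FiniteType.of_surjective (Ideal.Quotient.mkₐ k _) Ideal.Quotient.mk_surjective
  obtain ⟨n, ν, hν, hνi⟩ := exists_integral_inj_algHom_of_fg k (R ⧸ RingHom.ker (GLin.orbitHom k A x))
  letI : Algebra (MvPolynomial (Fin n) k) (R ⧸ RingHom.ker (GLin.orbitHom k A x)) := ν.toRingHom.toAlgebra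
  haveI : Algebra.IsIntegral (MvPolynomial (Fin n) k) (R ⧸ RingHom.ker (GLin.orbitHom k A x)) := ⟨hνi⟩
  exact ⟨n, (VarDim.ringKrullDim_eq_of_isIntegral hν).trans (VarDim.ringKrullDim_mvPolynomial k n)⟩

/-- The boundary of an orbit has smaller dimension. -/
theorem exists_mv_eq_of_dim_le {x z : R →ₐ[k] k} (hxz : GLin.InOrbitClosure k A x z)
    (hdim : ringKrullDim (R ⧸ RingHom.ker (GLin.orbitHom k A x)) ≤
      ringKrullDim (R ⧸ RingHom.ker (GLin.orbitHom k A z))) : ∃ g : Pts k A, mv g x = z := by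
  by_contra hno
  haveI : IsNoetherianRing R := Algebra.FiniteType.isNoetherianRing k R
  obtain ⟨n, hn⟩ := exists_orbit_dim (A := A) x
  obtain ⟨m, hm⟩ := exists_orbit_dim (A := A) z
  have hnm : n ≤ m := by rw [hn, hm] at hdim; exact_mod_cast hdim
  rw [ringKrullDim_quotient] at hm hn
  obtain ⟨l, hl⟩ := Order.le_krullDim_iff.1 hm.ge
  set L : LTSeries (PrimeSpectrum R) := l.map Subtype.val (fun _ _ h => h)
  have hhead : RingHom.ker (GLin.orbitHom k A z) ≤ L.head.asIdeal := l.head.2
  have hxhead : RingHom.ker (GLin.orbitHom k A x) ≤ L.head.asIdeal :=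
    (ker_le_radical hxz).trans (L.head.isPrime.radical_le_iff.2 hhead)
  obtain ⟨P, hP, hPle⟩ := Ideal.exists_minimalPrimes_le hxhead
  have hne : P ≠ L.head.asIdeal := by
    rintro rfl
    obtain ⟨D, hD, hDorb⟩ := exists_open_orbit x hP
    haveI := L.head.isPrime
    obtain ⟨w, hw, hwD⟩ := exists_point_of_notMem (k := k) hD
    obtain ⟨-, h, hh⟩ := hDorb w (hxhead.trans hw) hwD
    have hback := inOrbitClosure_mv h⁻¹ (mv h x)
    rw [mv_inv_mv] at hback
    rw [hh] at hback
    exact hno (exists_mv_eq_of_mutual hxz (inOrbitClosure_trans (hhead.trans hw) hback))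
  let p : PrimeSpectrum R := ⟨P, hP.1.1⟩
  let L' := L.cons p (lt_of_le_of_ne (show p ≤ L.head from hPle) fun h => hne (congrArg PrimeSpectrum.asIdeal h))
  have hmem : ∀ i, L' i ∈ PrimeSpectrum.zeroLocus ((RingHom.ker (GLin.orbitHom k A x) : Ideal R) : Set R) := fun i => by
    have h0 : L'.head ≤ L' i := LTSeries.head_le L' i
    rw [show L'.head = p from RelSeries.head_cons ..] at h0
    exact hP.1.2.trans h0
  have hlen := Order.LTSeries.length_le_krullDim (LTSeries.mk L'.length
      (fun i => (⟨L' i, hmem i⟩ : PrimeSpectrum.zeroLocus ((RingHom.ker (GLin.orbitHom k A x) : Ideal R) : Set R)))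
      fun i j hij => LTSeries.strictMono L' hij)
  rw [hn] at hlen
  have h2 : L'.length = l.length + 1 := RelSeries.cons_length ..
  change (L'.length : WithBot ℕ∞) ≤ _ at hlen
  rw [h2, hl] at hlen
  have : m + 1 ≤ n := by exact_mod_cast hlen
  omega

/-- Dimension of a quotient depends on the radical. -/
lemma ringKrullDim_quotient_eq_of_radical_eq {T : Type u} [CommRing T] {I J : Ideal T}
    (h : I.radical = J.radical) : ringKrullDim (T ⧸ I) = ringKrullDim (T ⧸ J) := by
  rw [ringKrullDim_quotient, ringKrullDim_quotient, ← PrimeSpectrum.zeroLocus_radical I,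
    ← PrimeSpectrum.zeroLocus_radical J, h]

end Groth.Agent.OrbitH28
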