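import Groth.Agent.Lib.OrbitH28.Basic
import Mathlib.RingTheory.TensorProduct.Finite

/-!
# Openness of finite stabilisers and invariants cutting out stable points
-/

open TensorProduct HopfRep WithConv Groth.Agent.Comodule

universe u

namespace Groth.Agent.OrbitH28

set_option linter.unusedSectionVars false
set_option linter.style.haveILetI false

variable {k : Type u} [Field k] [IsAlgClosed k] {A : Type u} [CommRing A] [HopfAlgebra k A]
  [Algebra.FiniteType k A]
variable {R : Type u} [CommRing R] [Algebra k R] [Comod k A R] [GLin.IsCoactAlg k A R]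
  [Algebra.FiniteType k R]

/-- `(z, g) ↦` the point of `R ⊗ A`. -/
noncomputable def pair (z : R →ₐ[k] k) (g : Pts k A) : R ⊗[k] A →ₐ[k] k :=
  Algebra.TensorProduct.lift z g.ofConv fun _ _ => Commute.all _ _

lemma pair_tmul (z : R →ₐ[k] k) (g : Pts k A) (r : R) (a : A) : pair z g (r ⊗ₜ[k] a) = z r * g.ofConv a := by
  simp [pair]

lemma pair_coact (z : R →ₐ[k] k) (g : Pts k A) (f : R) :
    pair z g (Comod.coact (k := k) (A := A) f) = mv g z f := by
  rw [mv_apply, orbitHom_apply]
  generalize Comod.coact (k := k) (A := A) f = t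
  induction t with
  | zero => simp
  | tmul r a => simp [pair_tmul]
  | add p q hp hq => simp only [map_add, hp, hq]

/-- Finite stabiliser is an open condition. -/
theorem exists_nhd_finStab {x : R →ₐ[k] k} (hx : FinStab A x) :
    ∃ D : R, x D ≠ 0 ∧ ∀ z : R →ₐ[k] k, z D ≠ 0 → FinStab A z := by
  classical
  let Ψ : R ⊗[k] R →ₐ[k] R ⊗[k] A :=
    Algebra.TensorProduct.lift Algebra.TensorProduct.includeLeft (GLin.coactAlgHom k A R) fun _ _ => Commute.all _ _
  letI : Algebra (R ⊗[k] R) (R ⊗[k] A) := Ψ.toRingHom.toAlgebra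
  haveI : IsScalarTower k (R ⊗[k] R) (R ⊗[k] A) := IsScalarTower.of_algHom Ψ
  haveI : Algebra.FiniteType k (R ⊗[k] A) :=
    Algebra.FiniteType.trans (S := R) ‹Algebra.FiniteType k R› inferInstance
  have hΨ : ∀ (z : R →ₐ[k] k) (g : Pts k A) (r f : R),
      pair z g (Ψ (r ⊗ₜ[k] f)) = z r * mv g z f := by
    intro z g r f
    simp [Ψ, pair_coact, pair_tmul]
  have hfib : {u : R ⊗[k] A →ₐ[k] k | u.comp (IsScalarTower.toAlgHom k (R ⊗[k] R) (R ⊗[k] A)) =
      (pair x (1 : Pts k A)).comp (IsScalarTower.toAlgHom k (R ⊗[k] R) (R ⊗[k] A))}.Finite := by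
    refine (hx.image fun g => pair x g).subset fun u hu => ?_
    let z : R →ₐ[k] k := u.comp Algebra.TensorProduct.includeLeft
    let g : Pts k A := toConv (u.comp Algebra.TensorProduct.includeRight)
    have huz : u = pair z g := by
      refine Algebra.TensorProduct.ext' fun r a => ?_
      rw [pair_tmul]
      show _ = u (r ⊗ₜ[k] 1) * u (1 ⊗ₜ[k] a)
      rw [← map_mul, Algebra.TensorProduct.tmul_mul_tmul, mul_one, one_mul]
    have hval : ∀ r f : R, z r * mv g z f = x r * x f := fun r f => by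
      have := AlgHom.congr_fun hu (r ⊗ₜ[k] f)
      rw [AlgHom.comp_apply, AlgHom.comp_apply, huz] at this
      change pair z g (Ψ (r ⊗ₜ[k] f)) = pair x 1 (Ψ (r ⊗ₜ[k] f)) at this
      rwa [hΨ, hΨ, mv_one] at this
    have hzx : z = x := AlgHom.ext fun r => by simpa using hval r 1
    refine ⟨g, AlgHom.ext fun f => ?_, by rw [← hzx]; exact huz.symm⟩
    have := hval 1 f
    rw [hzx] at this
    simpa using this
  haveI := quasiFiniteAt_of_finite_points (S := R ⊗[k] R) (pair x (1 : Pts k A)) hfib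
  obtain ⟨r, hr, hru⟩ := exists_nhd_quasiFiniteAt (S := R ⊗[k] R) (pair x (1 : Pts k A))
  let sect : R ⊗[k] A →ₐ[k] R :=
    Algebra.TensorProduct.lift (AlgHom.id k R) ((Algebra.ofId k R).comp (1 : Pts k A).ofConv) fun _ _ => Commute.all _ _
  have hsect : ∀ (z : R →ₐ[k] k), z (sect r) = pair z 1 r := fun z => by
    refine AlgHom.congr_fun (?_ : z.comp sect = pair z 1) r
    exact Algebra.TensorProduct.ext' fun a b => by simp [sect, pair_tmul]
  refine ⟨sect r, by rwa [hsect], fun z hz => ?_⟩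
  rw [hsect] at hz
  haveI := hru _ hz
  obtain ⟨b, hb, hbu⟩ := exists_isolating (S := R ⊗[k] R) (pair z (1 : Pts k A))
  let a : A := Algebra.TensorProduct.lift ((Algebra.ofId k A).comp z) (AlgHom.id k A) (fun _ _ => Commute.all _ _) b
  have ha : ∀ g : Pts k A, g.ofConv a = pair z g b := fun g => by
    refine AlgHom.congr_fun (?_ : g.ofConv.comp (Algebra.TensorProduct.lift ((Algebra.ofId k A).comp z)
      (AlgHom.id k A) fun _ _ => Commute.all _ _) = pair z g) b
    exact Algebra.TensorProduct.ext' fun r c => by simp [pair_tmul]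
  have hone : ∀ g : Pts k A, mv g z = z → g.ofConv a ≠ 0 → g = 1 := by
    intro g hg hga
    have h := hbu (pair z g) ?_ (by rwa [← ha])
    · refine WithConv.ofConv_injective (AlgHom.ext fun c => ?_)
      have h' := AlgHom.congr_fun h ((1 : R) ⊗ₜ[k] c)
      simpa [pair_tmul] using h'
    · refine Algebra.TensorProduct.ext' fun p f => ?_
      show pair z g (Ψ (p ⊗ₜ[k] f)) = pair z 1 (Ψ (p ⊗ₜ[k] f))
      rw [hΨ, hΨ, hg, mv_one]
  let tr : Pts k A → A := fun h =>
    Algebra.TensorProduct.lift (AlgHom.id k A) ((Algebra.ofId k A).comp h.ofConv) (fun _ _ => Commute.all _ _)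
      (CoalgebraStruct.comul (R := k) a)
  have htr : ∀ g h : Pts k A, g.ofConv (tr h) = (g * h).ofConv a := fun g h => by
    show _ = (g * h) a
    rw [AlgHom.convMul_apply]
    simp only [tr]
    generalize CoalgebraStruct.comul (R := k) a = t
    induction t with
    | zero => simp
    | tmul c d => simp
    | add p q hp hq => simp only [map_add, hp, hq]
  let St : Set A := Set.range fun f => GLin.orbitHom k A z f - algebraMap k A (z f)
  let Tr : Set A := (fun h => tr h⁻¹) '' {h | mv h z = z}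
  have htop : Ideal.span (St ∪ Tr) = ⊤ := by
    by_contra hne
    obtain ⟨m, hm, hle⟩ := Ideal.exists_le_maximal _ hne
    obtain ⟨w, rfl⟩ := exists_point_eq (k := k) hm
    have hw : mv (toConv w) z = z := AlgHom.ext fun f => by
      have := hle (Ideal.subset_span (Or.inl ⟨f, rfl⟩))
      rwa [RingHom.mem_ker, map_sub, AlgHom.commutes, sub_eq_zero] at this
    have h2 : (toConv w).ofConv (tr (toConv w)⁻¹) = 0 :=
      hle (Ideal.subset_span (Or.inr ⟨toConv w, hw, rfl⟩))
    rw [htr, mul_inv_cancel] at h2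
    exact hb (by rw [← ha]; exact h2)
  obtain ⟨T, hT, h1⟩ := Submodule.mem_span_finite_of_mem_span
    (show (1 : A) ∈ Submodule.span A (St ∪ Tr) from (htop.symm ▸ Submodule.mem_top : (1 : A) ∈ Ideal.span _))
  have hsel : ∀ c ∈ T, c ∈ Tr → ∃ h, mv h z = z ∧ tr h⁻¹ = c := fun c _ hc => hc
  choose! sel hselz hseltr using hsel
  refine ((T.finite_toSet).image sel).subset fun g hg => ?_
  by_contra hgs
  have hle : Submodule.span A (T : Set A) ≤ RingHom.ker g.ofConv := Submodule.span_le.2 fun c hc => by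
    rw [SetLike.mem_coe, RingHom.mem_ker]
    rcases hT hc with ⟨f, rfl⟩ | hcT
    · rw [map_sub, AlgHom.commutes, sub_eq_zero]
      exact AlgHom.congr_fun hg f
    · by_contra hne
      rw [← hseltr c hc hcT, htr] at hne
      have := hone (g * (sel c)⁻¹) ?_ hne
      · exact hgs ⟨c, hc, (mul_inv_eq_one.1 this).symm⟩
      · have hg' : mv g z = z := hg
        rw [← mv_mv, hg']
        conv_lhs => rw [← hselz c hc hcT, mv_inv_mv]
  exact one_ne_zero (α := k) (by simpa [RingHom.mem_ker] using hle h1)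

/-- A stable ideal not vanishing on a closed orbit contains an invariant equal to `1` there. -/
theorem exists_invariant_of_closed (hG : IsLinearlyReductive k A) {x : R →ₐ[k] k} (hx : Closed A x)
    {J : Ideal R} (hJ : IsSubcomod (k := k) (A := A) (J.restrictScalars k)) {f : R} (hf : f ∈ J) (hfx : x f ≠ 0) :
    ∃ d ∈ J, d ∈ fixedPts k A R ∧ x d = 1 := by
  obtain ⟨E, hE⟩ := exists_reynolds (V := R) (A := A) hG
  have htop : RingHom.ker (GLin.orbitHom k A x) ⊔ J = ⊤ := by
    by_contra hne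
    obtain ⟨w, hw⟩ := exists_point (k := k) hne
    obtain ⟨g, hg⟩ := hx w (le_sup_left.trans hw)
    apply hfx
    have hxw : x = mv g⁻¹ w := by rw [← hg, mv_inv_mv]
    rw [hxw, mv_apply, ← act_apply]
    exact hw (Submodule.mem_sup_right (act_mem hJ _ hf))
  obtain ⟨a, ha, b, hb, hab⟩ := Submodule.mem_sup.1 (htop.symm ▸ Submodule.mem_top : (1 : R) ∈ _ ⊔ J)
  refine ⟨E b, hE.apply_mem hG hJ hb, hE.mem b, ?_⟩
  have h0 : x (E a) = 0 := inOrbitClosure_self x (hE.apply_mem hG (isSubcomod_ker_orbitHom x) ha)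
  have h1 : E a + E b = 1 := by
    rw [← map_add, hab]; exact (hE.fix 1).2 (GLin.invariants k A R).one_mem
  simpa [h0] using congrArg x h1

/-- Around a stable point some invariant cuts out only points with finite stabiliser. -/
theorem exists_invariant_finStab (hG : IsLinearlyReductive k A) {x : R →ₐ[k] k} (hx : Closed A x)
    (hfin : FinStab A x) :
    ∃ d ∈ fixedPts k A R, x d = 1 ∧ ∀ z : R →ₐ[k] k, z d ≠ 0 → FinStab A z := by
  haveI : IsNoetherianRing A := Algebra.FiniteType.isNoetherianRing k A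
  obtain ⟨D, hD, hDfin⟩ := exists_nhd_finStab hfin
  obtain ⟨n, hn⟩ := IsNoetherianRing.isNilpotent_nilradical A
  let J : Ideal R := ⨅ z : {z : R →ₐ[k] k // ¬ FinStab A z}, RingHom.ker (GLin.orbitHom k A z.1)
  have hJ : IsSubcomod (k := k) (A := A) (J.restrictScalars k) := fun v hv =>
    (HopfMod.mem_tens_iff _ _).2 fun l => (Submodule.mem_iInf _).2 fun z =>
      (HopfMod.mem_tens_iff _ _).1 (isSubcomod_ker_orbitHom z.1 v ((Submodule.mem_iInf _).1 hv z)) l
  have hDJ : D ^ n ∈ J := (Submodule.mem_iInf _).2 fun z => by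
    rw [RingHom.mem_ker, map_pow, ← Ideal.mem_bot, ← Ideal.zero_eq_bot, ← hn]
    refine Ideal.pow_mem_pow (mem_nilradical.2 (isNilpotent_of_forall_point (k := k) _ fun g => ?_)) n
    by_contra hne
    have h := (hDfin _ (show mv (toConv g) z.1 D ≠ 0 from hne)).mv (toConv g)⁻¹
    rw [mv_inv_mv] at h
    exact z.2 h
  obtain ⟨d, hdJ, hdinv, hd⟩ := exists_invariant_of_closed hG hx hJ hDJ (by rw [map_pow]; exact pow_ne_zero _ hD)
  refine ⟨d, hdinv, hd, fun z hz => by_contra fun hzf => hz ?_⟩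
  exact inOrbitClosure_self z ((Submodule.mem_iInf _).1 hdJ ⟨z, hzf⟩)

/-- A point is stable exactly when all stabilisers in its fibre are finite. -/
theorem stable_iff (hG : IsLinearlyReductive k A) (x : R →ₐ[k] k) :
    (Closed A x ∧ FinStab A x) ↔
      ∀ z : R →ₐ[k] k, (∀ f ∈ fixedPts k A R, z f = x f) → FinStab A z := by
  constructor
  · rintro ⟨hx, hfin⟩ z hz
    obtain ⟨w, hwx, hwz⟩ := exists_inOrbitClosure_both (A := A) hG (x₁ := x) (x₂ := z) fun f hf => (hz f hf).symm
    obtain ⟨g, rfl⟩ := hx w hwx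
    have hback := inOrbitClosure_mv g⁻¹ (mv g x)
    rw [mv_inv_mv] at hback
    have hxz : GLin.InOrbitClosure k A z x := inOrbitClosure_trans hwz hback
    obtain ⟨h, rfl⟩ := exists_mv_eq_of_finStab hx hfin hxz
    have := hfin.mv h⁻¹
    rwa [mv_inv_mv] at this
  · intro h
    refine ⟨?_, h x fun f _ => rfl⟩
    obtain ⟨y, hxy, hy⟩ := exists_closed (A := A) x
    have hyf := h y fun f hf => eq_of_inOrbitClosure hxy hf
    obtain ⟨g, hg⟩ := exists_mv_eq_of_finStab hy hyf hxy
    intro z hz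
    have hyx := inOrbitClosure_mv g⁻¹ (mv g x)
    rw [mv_inv_mv, hg] at hyx
    obtain ⟨g', hg'⟩ := hy z (inOrbitClosure_trans hyx hz)
    exact ⟨g * g', by rw [← mv_mv, hg, hg']⟩

end Groth.Agent.OrbitH28
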