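import Groth.Agent.Lib.OrbitH28.QFin
import Groth.Agent.Lib.HopfMod.Ideal
import Groth.Agent.Lib.VarDim.Alg
import Mathlib.RingTheory.HopfAlgebra.Convolution
import Mathlib.RingTheory.Spectrum.Prime.Chevalley
import Mathlib.RingTheory.Ideal.MinimalPrime.Localization
import Mathlib.RingTheory.Ideal.MinimalPrime.Noetherian
import Mathlib.RingTheory.Nilpotent.Lemmas

/-!
# Orbits of rational points: closures, closed orbits, finite stabilisers
-/

open TensorProduct HopfRep WithConv Groth.Agent.Comodule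

universe u

namespace Groth.Agent.OrbitH28

set_option linter.unusedSectionVars false
set_option linter.style.haveILetI false

variable {k : Type u} [Field k] {A : Type u} [CommRing A] [HopfAlgebra k A]
variable {R : Type u} [CommRing R] [Algebra k R] [Comod k A R] [GLin.IsCoactAlg k A R]

/-- The group of rational points. -/
abbrev Pts (k A : Type u) [CommSemiring k] [Semiring A] [Algebra k A] := WithConv (A →ₐ[k] k)

/-- A point moved by a group point. -/
noncomputable def mv (g : Pts k A) (x : R →ₐ[k] k) : R →ₐ[k] k := GLin.actPt k g.ofConv x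

lemma mv_apply (g : Pts k A) (x : R →ₐ[k] k) (f : R) : mv g x f = g.ofConv (GLin.orbitHom k A x f) := rfl

lemma act_apply (g : A →ₐ[k] k) (x : R →ₐ[k] k) (f : R) :
    x (Comod.act k A R g f) = g (GLin.orbitHom k A x f) := by
  simp only [Comod.act, LinearMap.comp_apply, orbitHom_apply, LinearEquiv.coe_coe]
  generalize Comod.coact (k := k) (A := A) f = z
  induction z with
  | zero => simp
  | tmul r a => simp [mul_comm]
  | add p q hp hq => simp only [map_add, hp, hq]

lemma mv_one (x : R →ₐ[k] k) : mv (1 : Pts k A) x = x := by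
  ext f
  rw [mv_apply, AlgHom.convOne_apply]
  simp [counit_orbitHom]

lemma mv_mv (g h : Pts k A) (x : R →ₐ[k] k) : mv h (mv g x) = mv (g * h) x := by
  ext f
  rw [mv_apply, mv_apply, AlgHom.convMul_apply]
  have e' : CoalgebraStruct.comul (R := k) (GLin.orbitHom k A x f) =
      (GLin.orbitHom k A x).toLinearMap.rTensor A (Comod.coact (k := k) (A := A) f) :=
    comodHom_apply (isComodHom_orbitHom (A := A) x) f
  rw [e', orbitHom_apply]
  generalize Comod.coact (k := k) (A := A) f = z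
  induction z with
  | zero => simp
  | tmul r a => simp [mv, GLin.actPt]
  | add p q hp hq => simp only [map_add, hp, hq]

lemma mv_inv_mv (g : Pts k A) (x : R →ₐ[k] k) : mv g⁻¹ (mv g x) = x := by
  rw [mv_mv, mul_inv_cancel, mv_one]

/-- Finite stabiliser, on points. -/
def FinStab (A : Type u) [CommRing A] [HopfAlgebra k A] [Comod k A R] [GLin.IsCoactAlg k A R]
    (x : R →ₐ[k] k) : Prop := {g : Pts k A | mv g x = x}.Finite

/-- Closed orbit, on points. -/
def Closed (A : Type u) [CommRing A] [HopfAlgebra k A] [Comod k A R] [GLin.IsCoactAlg k A R]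
    (x : R →ₐ[k] k) : Prop :=
  ∀ z : R →ₐ[k] k, GLin.InOrbitClosure k A x z → ∃ g : Pts k A, mv g x = z

lemma finStab_iff (x : R →ₐ[k] k) :
    {g : A →ₐ[k] k | ∀ f : R, x (Comod.act k A R g f) = x f}.Finite ↔ FinStab A x := by
  have e : {g : Pts k A | mv g x = x} = WithConv.ofConv ⁻¹' {g : A →ₐ[k] k | ∀ f : R, x (Comod.act k A R g f) = x f} := by
    ext g
    simp only [Set.mem_preimage, Set.mem_ofPred_eq, AlgHom.ext_iff, mv_apply, act_apply]
  rw [FinStab, e]
  exact ⟨fun h => h.preimage (fun a _ b _ hab => WithConv.ofConv_injective hab),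
    fun h => h.of_preimage (fun g => ⟨toConv g, rfl⟩)⟩

lemma FinStab.mv {x : R →ₐ[k] k} (h : FinStab A x) (g : Pts k A) : FinStab A (mv g x) := by
  refine (h.image fun s => g⁻¹ * s * g).subset fun s hs => ⟨g * s * g⁻¹, ?_, by group⟩
  show OrbitH28.mv _ x = x
  rw [← mv_mv, ← mv_mv, show OrbitH28.mv s (OrbitH28.mv g x) = OrbitH28.mv g x from hs, mv_inv_mv]

lemma inOrbitClosure_mv (g : Pts k A) (x : R →ₐ[k] k) : GLin.InOrbitClosure k A x (mv g x) := by
  intro f hf
  rw [RingHom.mem_ker] at hf ⊢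
  rw [mv_apply, hf, map_zero]

lemma act_mem {V : Type u} [AddCommGroup V] [Module k V] [Comod k A V] {N : Submodule k V}
    (hN : IsSubcomod (k := k) (A := A) N) (g : A →ₐ[k] k) {v : V} (hv : v ∈ N) :
    Comod.act k A V g v ∈ N :=
  (HopfMod.mem_tens_iff N _).1 (hN v hv) g.toLinearMap

variable [IsAlgClosed k] [Algebra.FiniteType k A]

lemma nontrivial_hopf (k A : Type u) [Field k] [CommRing A] [HopfAlgebra k A] : Nontrivial A :=
  ⟨⟨1, 0, fun h => by have := congrArg (Coalgebra.counit (R := k)) h; simp at this⟩⟩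

lemma ker_le_radical {y z : R →ₐ[k] k} (h : GLin.InOrbitClosure k A y z) :
    RingHom.ker (GLin.orbitHom k A y) ≤ (RingHom.ker (GLin.orbitHom k A z)).radical := by
  intro f hf
  obtain ⟨n, hn⟩ := isNilpotent_of_forall_point (k := k) (GLin.orbitHom k A z f) fun g => by
    rw [← act_apply]
    exact h (act_mem (isSubcomod_ker_orbitHom y) g hf)
  exact ⟨n, by rw [RingHom.mem_ker, map_pow, hn]⟩

lemma inOrbitClosure_trans {x y z : R →ₐ[k] k} (h : GLin.InOrbitClosure k A x y)
    (h' : GLin.InOrbitClosure k A y z) : GLin.InOrbitClosure k A x z := fun f hf => by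
  obtain ⟨n, hn⟩ := ker_le_radical h hf
  exact (RingHom.ker_isPrime z).mem_of_pow_mem n (h' hn)

lemma vanish_iff (x z : R →ₐ[k] k) :
    (∀ f : R, (∀ g : A →ₐ[k] k, x (Comod.act k A R g f) = 0) → z f = 0) ↔ GLin.InOrbitClosure k A x z := by
  constructor
  · intro h f hf
    refine h f fun g => ?_
    rw [act_apply, RingHom.mem_ker.1 hf, map_zero]
  · intro h f hf
    obtain ⟨n, hn⟩ := isNilpotent_of_forall_point (k := k) (GLin.orbitHom k A x f) fun g => by
      rw [← act_apply]; exact hf g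
    refine eq_zero_of_pow_eq_zero (n := n) ?_
    rw [← map_pow]
    exact h (by rw [RingHom.mem_ker, map_pow, hn])

lemma orbit_iff (x z : R →ₐ[k] k) :
    (∃ g : A →ₐ[k] k, ∀ f : R, z f = x (Comod.act k A R g f)) ↔ ∃ g : Pts k A, mv g x = z := by
  constructor
  · rintro ⟨g, hg⟩
    exact ⟨toConv g, AlgHom.ext fun f => by rw [mv_apply, hg, act_apply]⟩
  · rintro ⟨g, rfl⟩
    exact ⟨g.ofConv, fun f => by rw [mv_apply, act_apply]⟩

lemma closed_iff (x : R →ₐ[k] k) :
    (∀ z : R →ₐ[k] k, (∀ f : R, (∀ g : A →ₐ[k] k, x (Comod.act k A R g f) = 0) → z f = 0) →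
      ∃ g : A →ₐ[k] k, ∀ f : R, z f = x (Comod.act k A R g f)) ↔ Closed A x :=
  forall_congr' fun z => by rw [vanish_iff, orbit_iff]

lemma exists_open_of_isConstructible {X : Type*} [TopologicalSpace X] {s : Set X} (hs : Topology.IsConstructible s)
    (η : X) : ∃ U : Set X, IsOpen U ∧ η ∈ U ∧ ((∀ p ∈ U, η ⤳ p → p ∈ s) ∨ (∀ p ∈ U, η ⤳ p → p ∉ s)) := by
  induction hs using Topology.IsConstructible.empty_union_induction with
  | open_retrocompact U hU _ =>
    by_cases h : η ∈ U
    · exact ⟨U, hU, h, Or.inl fun p hp _ => hp⟩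
    · exact ⟨Set.univ, isOpen_univ, trivial, Or.inr fun p _ hp hpU => h (hp.mem_open hU hpU)⟩
  | union s _ t _ hs ht =>
    obtain ⟨U, hU, hηU, hs⟩ := hs
    obtain ⟨V, hV, hηV, ht⟩ := ht
    rcases hs with hs | hs
    · exact ⟨U, hU, hηU, Or.inl fun p hp h => Or.inl (hs p hp h)⟩
    rcases ht with ht | ht
    · exact ⟨V, hV, hηV, Or.inl fun p hp h => Or.inr (ht p hp h)⟩
    exact ⟨U ∩ V, hU.inter hV, ⟨hηU, hηV⟩, Or.inr fun p hp h hps => hps.elim (hs p hp.1 h) (ht p hp.2 h)⟩
  | compl s _ hs =>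
    obtain ⟨U, hU, hηU, hs⟩ := hs
    exact ⟨U, hU, hηU, hs.symm.imp id fun h p hp h' hn => hn (h p hp h')⟩

variable [Algebra.FiniteType k R]

/-- The orbit contains an open piece of every component of its closure. -/
theorem exists_open_orbit (y : R →ₐ[k] k) {P : Ideal R}
    (hP : P ∈ (RingHom.ker (GLin.orbitHom k A y)).minimalPrimes) :
    ∃ D ∉ P, ∀ z : R →ₐ[k] k, GLin.InOrbitClosure k A y z → z D ≠ 0 →
      P ≤ RingHom.ker z ∧ ∃ g : Pts k A, mv g y = z := by
  classical
  haveI : IsNoetherianRing R := Algebra.FiniteType.isNoetherianRing k R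
  haveI := hP.1.1
  set φ := GLin.orbitHom k A y
  have hfp : φ.toRingHom.FinitePresentation := by
    refine RingHom.FinitePresentation.of_finiteType.1 ?_
    letI : Algebra R A := φ.toRingHom.toAlgebra
    haveI : IsScalarTower k R A := IsScalarTower.of_algHom φ
    exact RingHom.finiteType_algebraMap.2 (Algebra.FiniteType.of_restrictScalars_finiteType k R A)
  obtain ⟨U, hU, hηU, hUC⟩ := exists_open_of_isConstructible (PrimeSpectrum.isConstructible_range_comap hfp)
    ⟨P, hP.1.1⟩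
  obtain ⟨Q, hQ, -, hQP⟩ := Ideal.exists_comap_eq_of_mem_minimalPrimes φ.toRingHom (I := (⊥ : Ideal A)) P
    (by rwa [← RingHom.ker_eq_comap_bot])
  replace hUC := hUC.resolve_right fun h => h _ hηU specializes_rfl ⟨⟨Q, hQ⟩, PrimeSpectrum.ext hQP⟩
  obtain ⟨_, ⟨_, ⟨D0, rfl⟩, rfl⟩, hD0, hD0U⟩ :=
    PrimeSpectrum.isBasis_basic_opens.exists_subset_of_mem_open hηU hU
  have hfin := Ideal.finite_minimalPrimes_of_isNoetherianRing R (RingHom.ker φ)
  have he : ∀ Q' ∈ (RingHom.ker φ).minimalPrimes, Q' ≠ P → ∃ e ∈ Q', e ∉ P := fun Q' hQ' hne =>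
    SetLike.not_le_iff_exists.1 fun hle => hne (le_antisymm hle (hP.2 hQ'.1 hle))
  choose! e heQ heP using he
  let T := hfin.toFinset.erase P
  have hT : ∀ Q' ∈ T, e Q' ∉ P := fun Q' hQ' =>
    heP _ (hfin.mem_toFinset.1 (Finset.mem_of_mem_erase hQ')) (Finset.ne_of_mem_erase hQ')
  refine ⟨D0 * ∏ Q' ∈ T, e Q', fun h => (hP.1.1.mem_or_mem h).elim hD0 fun h => ?_, fun z hz hzD => ?_⟩
  · obtain ⟨Q', hQ', hm⟩ := Ideal.IsPrime.prod_mem_iff.1 h
    exact hT Q' hQ' hm
  · rw [map_mul, mul_ne_zero_iff] at hzD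
    obtain ⟨Q', hQ', hQz⟩ := Ideal.exists_minimalPrimes_le (J := RingHom.ker z) hz
    have hPz : P ≤ RingHom.ker z := by
      by_cases h : Q' = P
      · exact h ▸ hQz
      · refine absurd ?_ hzD.2
        rw [map_prod]
        exact Finset.prod_eq_zero (Finset.mem_erase.2 ⟨h, hfin.mem_toFinset.2 hQ'⟩) (hQz (heQ _ hQ' h))
    refine ⟨hPz, ?_⟩
    obtain ⟨q, hq⟩ := hUC ⟨RingHom.ker z, inferInstance⟩ (hD0U hzD.1)
      ((PrimeSpectrum.le_iff_specializes _ _).1 hPz)
    obtain ⟨m, hm, hqm⟩ := q.asIdeal.exists_le_maximal q.isPrime.ne_top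
    obtain ⟨w, rfl⟩ := exists_point_eq (k := k) hm
    refine ⟨toConv w, eq_of_ker_le fun f hf => ?_⟩
    have : f ∈ (PrimeSpectrum.comap φ.toRingHom q).asIdeal := by rw [hq]; exact hf
    exact hqm this

/-- The closure of every orbit contains a closed orbit. -/
theorem exists_closed (x : R →ₐ[k] k) : ∃ y, GLin.InOrbitClosure k A x y ∧ Closed A y := by
  haveI : IsNoetherianRing R := Algebra.FiniteType.isNoetherianRing k R
  haveI : Nontrivial A := nontrivial_hopf k A
  obtain ⟨_, ⟨y, hy, rfl⟩, hmax⟩ := set_has_maximal_iff_noetherian.2 ‹IsNoetherianRing R›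
    ((fun z => (RingHom.ker (GLin.orbitHom k A z)).radical) '' {z | GLin.InOrbitClosure k A x z})
    ⟨_, x, inOrbitClosure_self x, rfl⟩
  refine ⟨y, hy, fun z hz => ?_⟩
  obtain ⟨P, hP, -⟩ := Ideal.exists_minimalPrimes_le (I := RingHom.ker (GLin.orbitHom k A y))
    (J := RingHom.ker (Bialgebra.counitAlgHom k A |>.comp (GLin.orbitHom k A y)))
    (fun f hf => by rw [RingHom.mem_ker] at hf ⊢; simp [hf])
  obtain ⟨D, hDP, hD⟩ := exists_open_orbit y hP
  have hnz : D ∉ (RingHom.ker (GLin.orbitHom k A z)).radical := by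
    intro h
    have hle := (Ideal.radical_mono (ker_le_radical hz)).trans_eq (Ideal.radical_idem _)
    have heq := eq_of_le_of_not_lt hle (hmax _ ⟨z, inOrbitClosure_trans hy hz, rfl⟩)
    rw [← heq] at h
    obtain ⟨n, hn⟩ := h
    exact hDP (hP.1.1.mem_of_pow_mem n (hP.1.2 hn))
  obtain ⟨g, hg⟩ : ∃ g : Pts k A, mv g z D ≠ 0 := by
    by_contra! h
    obtain ⟨n, hn⟩ := isNilpotent_of_forall_point (k := k) (GLin.orbitHom k A z D) fun g => h (toConv g)
    exact hnz ⟨n, by rw [RingHom.mem_ker, map_pow, hn]⟩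
  obtain ⟨-, h, hh⟩ := hD _ (inOrbitClosure_trans hz (inOrbitClosure_mv g z)) hg
  exact ⟨h * g⁻¹, by rw [← mv_mv, hh, mv_inv_mv]⟩

/-- An orbit with finite stabiliser is not in the boundary of another orbit. -/
theorem exists_mv_eq_of_finStab {x y : R →ₐ[k] k} (hx : Closed A x) (hfin : FinStab A x)
    (hyx : GLin.InOrbitClosure k A y x) : ∃ g : Pts k A, mv g y = x := by
  by_contra hno
  haveI : IsNoetherianRing R := Algebra.FiniteType.isNoetherianRing k R
  haveI : Nontrivial A := nontrivial_hopf k A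
  obtain ⟨n, ν, hν, hνi⟩ := exists_integral_inj_algHom_of_fg k A
  have hdimA : ringKrullDim A = (n : WithBot ℕ∞) := by
    letI : Algebra (MvPolynomial (Fin n) k) A := ν.toRingHom.toAlgebra
    haveI : Algebra.IsIntegral (MvPolynomial (Fin n) k) A := ⟨hνi⟩
    exact (VarDim.ringKrullDim_eq_of_isIntegral hν).trans (VarDim.ringKrullDim_mvPolynomial k n)
  have hmono : StrictMono (PrimeSpectrum.comap (GLin.orbitHom k A x).toRingHom) := by
    letI : Algebra R A := (GLin.orbitHom k A x).toRingHom.toAlgebra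
    haveI : IsScalarTower k R A := IsScalarTower.of_algHom _
    refine strictMono_comap_of_forall_point (k := k) (S := R) fun w => quasiFiniteAt_of_finite_points w ?_
    refine (hfin.image fun s : Pts k A => (s * toConv w).ofConv).subset fun u hu =>
      ⟨toConv u * (toConv w)⁻¹, ?_, by simp⟩
    show mv _ x = x
    have h1 : mv (toConv u) x = mv (toConv w) x := AlgHom.ext fun f => AlgHom.congr_fun hu f
    rw [← mv_mv, h1, mv_inv_mv]
  obtain ⟨l, hl⟩ := Order.le_krullDim_iff.1 hdimA.ge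
  set L := l.map _ hmono
  have hhead : RingHom.ker (GLin.orbitHom k A x) ≤ L.head.asIdeal := fun f hf => by
    show GLin.orbitHom k A x f ∈ l.head.asIdeal
    rw [RingHom.mem_ker.1 hf]; exact zero_mem _
  have hyhead : RingHom.ker (GLin.orbitHom k A y) ≤ L.head.asIdeal :=
    (ker_le_radical hyx).trans (L.head.isPrime.radical_le_iff.2 hhead)
  obtain ⟨P, hP, hPle⟩ := Ideal.exists_minimalPrimes_le hyhead
  have hne : P ≠ L.head.asIdeal := by
    rintro rfl
    obtain ⟨D, hD, hDorb⟩ := exists_open_orbit y hP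
    haveI := L.head.isPrime
    obtain ⟨z, hz, hzD⟩ := exists_point_of_notMem (k := k) hD
    obtain ⟨g, hg⟩ := hx z (hhead.trans hz)
    obtain ⟨-, h, hh⟩ := hDorb z (hyhead.trans hz) hzD
    exact hno ⟨h * g⁻¹, by rw [← mv_mv, hh, ← hg, mv_inv_mv]⟩
  let p : PrimeSpectrum R := ⟨P, hP.1.1⟩
  let L' := L.cons p (lt_of_le_of_ne (show p ≤ L.head from hPle) fun h => hne (congrArg PrimeSpectrum.asIdeal h))
  have hmem : ∀ i, L' i ∈ PrimeSpectrum.zeroLocus (P : Set R) := fun i => by
    have h0 : L'.head ≤ L' i := LTSeries.head_le L' i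
    rw [show L'.head = p from RelSeries.head_cons ..] at h0
    exact h0
  have hlen : (L'.length : WithBot ℕ∞) ≤ ringKrullDim (R ⧸ P) := by
    rw [ringKrullDim_quotient]
    exact Order.LTSeries.length_le_krullDim (LTSeries.mk L'.length
      (fun i => (⟨L' i, hmem i⟩ : PrimeSpectrum.zeroLocus (P : Set R))) fun i j hij => LTSeries.strictMono L' hij)
  obtain ⟨Q, hQ, -, hQP⟩ := Ideal.exists_comap_eq_of_mem_minimalPrimes (GLin.orbitHom k A y).toRingHom
    (I := (⊥ : Ideal A)) P (by rw [← RingHom.ker_eq_comap_bot]; exact hP)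
  haveI := hQ
  haveI := hP.1.1
  have hPker : P = RingHom.ker ((Ideal.Quotient.mkₐ k Q).comp (GLin.orbitHom k A y)) := by
    rw [← hQP]; ext f
    show GLin.orbitHom k A y f ∈ Q ↔ _
    simp [RingHom.mem_ker, Ideal.Quotient.eq_zero_iff_mem]
  let ψ : (R ⧸ P) →ₐ[k] A ⧸ Q := Ideal.Quotient.liftₐ P ((Ideal.Quotient.mkₐ k Q).comp (GLin.orbitHom k A y))
    fun a ha => by rw [hPker] at ha; exact ha
  have hψ : Function.Injective ψ := RingHom.lift_injective_of_ker_le_ideal _ _ hPker.ge
  have htd := trdeg_le_of_injective ψ hψ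
  rw [VarDim.trdeg_eq_tdeg k, VarDim.trdeg_eq_tdeg k, Nat.cast_le] at htd
  have hchain : ringKrullDim (R ⧸ P) ≤ (n : WithBot ℕ∞) := by
    rw [← hdimA, VarDim.ringKrullDim_eq_tdeg k]
    refine le_trans ?_ (ringKrullDim_le_of_surjective (Ideal.Quotient.mk Q) Ideal.Quotient.mk_surjective)
    rw [VarDim.ringKrullDim_eq_tdeg k]
    exact_mod_cast htd
  have hbad := hlen.trans hchain
  rw [show L'.length = L.length + 1 from RelSeries.cons_length .., show L.length = n from hl] at hbad
  have : n + 1 ≤ n := by exact_mod_cast hbad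
  omega

end Groth.Agent.OrbitH28
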