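import Mathlib.RingTheory.ZariskisMainTheorem
import Mathlib.RingTheory.Jacobson.Ring
import Mathlib.RingTheory.Jacobson.Artinian
import Mathlib.RingTheory.Spectrum.Prime.Jacobson
import Mathlib.FieldTheory.IsAlgClosed.Basic

/-!
# Quasi-finiteness read on rational points
-/

open Topology

universe u

namespace Groth.Agent.OrbitH28

set_option linter.unusedSectionVars false

variable {k : Type u} [Field k] {T : Type u} [CommRing T] [Algebra k T]

lemma ker_isMaximal (w : T →ₐ[k] k) : (RingHom.ker w).IsMaximal :=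
  RingHom.ker_isMaximal_of_surjective w fun c => ⟨algebraMap k T c, by simp⟩

instance ker_point_isPrime (w : T →ₐ[k] k) : (RingHom.ker w).IsPrime := RingHom.ker_isPrime w

lemma eq_of_ker_le {u w : T →ₐ[k] k} (h : RingHom.ker w ≤ RingHom.ker u) : u = w := by
  ext f
  have h1 := h (x := f - algebraMap k T (w f)) (by simp [RingHom.mem_ker])
  rwa [RingHom.mem_ker, map_sub, AlgHom.commutes, sub_eq_zero] at h1

variable [IsAlgClosed k] [Algebra.FiniteType k T]

lemma exists_point_eq {m : Ideal T} (hm : m.IsMaximal) : ∃ w : T →ₐ[k] k, RingHom.ker w = m := by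
  let : Field (T ⧸ m) := Ideal.Quotient.field m
  have : Algebra.FiniteType k (T ⧸ m) :=
    Algebra.FiniteType.of_surjective (Ideal.Quotient.mkₐ k m) Ideal.Quotient.mk_surjective
  have : Module.Finite k (T ⧸ m) := finite_of_finite_type_of_isJacobsonRing k (T ⧸ m)
  let e : k ≃ₐ[k] (T ⧸ m) := AlgEquiv.ofBijective (Algebra.ofId k (T ⧸ m))
    (IsAlgClosed.algebraMap_bijective_of_isIntegral (k := k) (K := T ⧸ m))
  refine ⟨e.symm.toAlgHom.comp (Ideal.Quotient.mkₐ k m), ?_⟩
  ext b
  simp [RingHom.mem_ker, Ideal.Quotient.eq_zero_iff_mem]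

/-- A finite type algebra over an algebraically closed field is separated by points up to nilpotents. -/
lemma isNilpotent_of_forall_point (a : T) (ha : ∀ w : T →ₐ[k] k, w a = 0) : IsNilpotent a := by
  have : IsJacobsonRing T := isJacobsonRing_of_finiteType (A := k) (B := T)
  rw [← mem_nilradical, nilradical, Ideal.zero_eq_bot, Ideal.radical_eq_jacobson]
  refine Submodule.mem_sInf.2 ?_
  rintro m ⟨-, hm⟩
  obtain ⟨w, hw⟩ := exists_point_eq (k := k) hm
  rw [← hw]
  exact ha w

/-- A point avoiding an element outside a prime. -/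
lemma exists_point_of_notMem {P : Ideal T} [P.IsPrime] {d : T} (hd : d ∉ P) :
    ∃ w : T →ₐ[k] k, P ≤ RingHom.ker w ∧ w d ≠ 0 := by
  have : IsJacobsonRing T := isJacobsonRing_of_finiteType (A := k) (B := T)
  rw [← IsJacobsonRing.out ‹IsJacobsonRing T› (Ideal.IsPrime.isRadical ‹P.IsPrime›), Ideal.jacobson, Submodule.mem_sInf] at hd
  push Not at hd
  obtain ⟨m, ⟨hPm, hm⟩, hdm⟩ := hd
  obtain ⟨w, hw⟩ := exists_point_eq (k := k) hm
  exact ⟨w, hw ▸ hPm, fun h => hdm (hw ▸ h)⟩

variable {S : Type u} [CommRing S] [Algebra k S] [Algebra S T] [IsScalarTower k S T]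

/-- Finitely many points in a fibre: quasi-finite at each of them. -/
lemma quasiFiniteAt_of_finite_points (w : T →ₐ[k] k)
    (h : {u : T →ₐ[k] k | u.comp (IsScalarTower.toAlgHom k S T) =
      w.comp (IsScalarTower.toAlgHom k S T)}.Finite) :
    Algebra.QuasiFiniteAt S (RingHom.ker w) := by
  have : IsJacobsonRing T := isJacobsonRing_of_finiteType (A := k) (B := T)
  have : Algebra.FiniteType S T := Algebra.FiniteType.of_restrictScalars_finiteType k S T
  let q : PrimeSpectrum T := ⟨RingHom.ker w, RingHom.ker_isPrime w⟩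
  refine Algebra.QuasiFiniteAt.of_isOpen_singleton_fiber (R := S) q ?_
  let F : Set (PrimeSpectrum T) := .comap (algebraMap S T) ⁻¹' {q.comap (algebraMap S T)}
  have hmax : ((q.comap (algebraMap S T)).asIdeal).IsMaximal := by
    show (Ideal.comap (algebraMap S T) (RingHom.ker w)).IsMaximal
    have e : Ideal.comap (algebraMap S T) (RingHom.ker w) =
        RingHom.ker (w.comp (IsScalarTower.toAlgHom k S T)) := by ext; simp [RingHom.mem_ker]
    rw [e]
    exact ker_isMaximal _
  have hF : IsClosed F :=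
    IsClosed.preimage (PrimeSpectrum.continuous_comap _)
      ((PrimeSpectrum.isClosed_singleton_iff_isMaximal _).2 hmax)
  have hsub : F ∩ closedPoints (PrimeSpectrum T) ⊆
      (fun u : T →ₐ[k] k => (⟨RingHom.ker u, RingHom.ker_isPrime u⟩ : PrimeSpectrum T)) ''
        {u | u.comp (IsScalarTower.toAlgHom k S T) = w.comp (IsScalarTower.toAlgHom k S T)} := by
    rintro p ⟨hpF, hp⟩
    obtain ⟨u, hu⟩ := exists_point_eq (k := k) ((PrimeSpectrum.isClosed_singleton_iff_isMaximal p).1 hp)
    refine ⟨u, ?_, PrimeSpectrum.ext hu⟩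
    refine eq_of_ker_le fun f hf => ?_
    have h1 : f ∈ (PrimeSpectrum.comap (algebraMap S T) p).asIdeal := by
      rw [show PrimeSpectrum.comap (algebraMap S T) p = q.comap (algebraMap S T) from hpF]
      exact hf
    have h2 : algebraMap S T f ∈ RingHom.ker u := hu ▸ h1
    simpa [RingHom.mem_ker] using h2
  have hfin : (F ∩ closedPoints (PrimeSpectrum T)).Finite := (h.image _).subset hsub
  have hFc : F ∩ closedPoints (PrimeSpectrum T) = F := by
    conv_rhs => rw [← closure_inter_closedPoints hF]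
    refine (IsClosed.closure_eq ?_).symm
    rw [← Set.biUnion_of_singleton (F ∩ closedPoints (PrimeSpectrum T))]
    exact hfin.isClosed_biUnion fun p hp => hp.2
  have hc : IsClosed (F \ {q}) := by
    rw [← Set.biUnion_of_singleton (F \ {q})]
    exact ((hFc ▸ hfin).subset Set.sdiff_subset).isClosed_biUnion fun p hp =>
      (hFc.ge hp.1).2
  refine isOpen_induced_iff.2 ⟨(F \ {q})ᶜ, hc.isOpen_compl, ?_⟩
  ext ⟨p, hp⟩
  simp only [Set.mem_preimage, Set.mem_compl_iff, Set.mem_sdiff, Set.mem_singleton_iff]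
  exact ⟨fun h => by_contra fun h' => h ⟨hp, fun he => h' (Subtype.ext he)⟩,
    fun h h' => h'.2 (congrArg Subtype.val h)⟩

/-- At a quasi-finite point the point is isolated among the points of its fibre. -/
lemma exists_isolating (w : T →ₐ[k] k)
    [Algebra.QuasiFiniteAt S (RingHom.ker w)] :
    ∃ b : T, w b ≠ 0 ∧ ∀ u : T →ₐ[k] k, u.comp (IsScalarTower.toAlgHom k S T) =
      w.comp (IsScalarTower.toAlgHom k S T) → u b ≠ 0 → u = w := by
  have : Algebra.FiniteType S T := Algebra.FiniteType.of_restrictScalars_finiteType k S T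
  let q : PrimeSpectrum T := ⟨RingHom.ker w, RingHom.ker_isPrime w⟩
  obtain ⟨U, hU, hUq⟩ := isOpen_induced_iff.1
    ((Algebra.quasiFiniteAt_iff_isOpen_singleton_fiber (R := S) q).1 ‹_›)
  have hqU : q ∈ U := hUq.ge rfl
  obtain ⟨_, ⟨_, ⟨b, rfl⟩, rfl⟩, hqb, hbU⟩ := PrimeSpectrum.isBasis_basic_opens.exists_subset_of_mem_open
    (by exact hqU) hU
  refine ⟨b, hqb, fun u hu hub => ?_⟩
  let p : PrimeSpectrum T := ⟨RingHom.ker u, RingHom.ker_isPrime u⟩
  have hp : p.comap (algebraMap S T) = q.comap (algebraMap S T) := by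
    refine PrimeSpectrum.ext ?_
    ext f
    show algebraMap S T f ∈ RingHom.ker u ↔ algebraMap S T f ∈ RingHom.ker w
    have := AlgHom.congr_fun hu f
    simp only [AlgHom.comp_apply, IsScalarTower.coe_toAlgHom'] at this
    simp [RingHom.mem_ker, this]
  have hmem := hUq.le (show (⟨p, hp⟩ : ↥(PrimeSpectrum.comap (algebraMap S T) ⁻¹' {q.comap (algebraMap S T)})) ∈ _ from hbU hub)
  exact eq_of_ker_le (congrArg (fun x => x.1.asIdeal) hmem).ge

/-- The quasi-finite locus is open. -/
lemma exists_nhd_quasiFiniteAt (w : T →ₐ[k] k)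
    [Algebra.QuasiFiniteAt S (RingHom.ker w)] :
    ∃ r : T, w r ≠ 0 ∧ ∀ (u : T →ₐ[k] k), u r ≠ 0 →
      Algebra.QuasiFiniteAt S (RingHom.ker u) := by
  have : Algebra.FiniteType S T := Algebra.FiniteType.of_restrictScalars_finiteType k S T
  obtain ⟨r, hr, hint, hm⟩ := Algebra.zariskisMainProperty_iff.1
    (Algebra.ZariskisMainProperty.of_finiteType (R := S) (RingHom.ker w))
  exact ⟨r, hr, fun u hu => Algebra.ZariskisMainProperty.quasiFiniteAt _
    (Algebra.zariskisMainProperty_iff.2 ⟨r, hu, hint, hm⟩)⟩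

/-- Quasi-finite at all points: the map of spectra is strictly monotone. -/
lemma strictMono_comap_of_forall_point
    (h : ∀ w : T →ₐ[k] k, Algebra.QuasiFiniteAt S (RingHom.ker w)) :
    StrictMono (PrimeSpectrum.comap (algebraMap S T)) := by
  intro p p' hpp'
  refine lt_of_le_of_ne (Ideal.comap_mono hpp'.le) fun he => ?_
  obtain ⟨m, hm, hp'm⟩ := p'.asIdeal.exists_le_maximal p'.isPrime.ne_top
  obtain ⟨w, rfl⟩ := exists_point_eq (k := k) hm
  have : (RingHom.ker w).IsPrime := RingHom.ker_isPrime w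
  have := h w
  have : Algebra.QuasiFiniteAt S p'.asIdeal := Algebra.QuasiFiniteAt.of_le hp'm
  exact hpp'.ne (PrimeSpectrum.ext (Algebra.QuasiFiniteAt.eq_of_le_of_under_eq hpp'.le
    (congrArg PrimeSpectrum.asIdeal he :)))

end Groth.Agent.OrbitH28
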